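import Groth.Agent.FCohLib.CmplReal
import Groth.Agent.FCohLib.AlgzIso
import Groth.Agent.FCohLib.AlgzVan
import Groth.Agent.HomCohLib.FullyFaithful
import Groth.Agent.QCohLib.Push

/-!
# Completion is fully faithful on coherent modules of a proper scheme over an adic ring
-/

set_option autoImplicit false
set_option linter.style.haveILetI false
set_option linter.unusedSectionVars false
set_option maxHeartbeats 1600000

universe u

open CategoryTheory CategoryTheory.Limits AlgebraicGeometry TopologicalSpace Opposite FSch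
open FCohLib (resSys cmpK cmpReal cmpReal_realProj gTr pushTri pullTri)

noncomputable section

namespace FPullFFLib

variable {A : Type u} [CommRing A] (I : Ideal A) {X : Scheme.{u}} [X.Over (Spec (CommRingCat.of A))]
  (𝓘 : X.IdealSheafData) (hX : (completionAlong X 𝓘).IsFormal)

/-- The completion morphism. -/
abbrev kap := toSchemeMor (completionAlong X 𝓘) hX (completionToX X 𝓘) (completionToX_comm X 𝓘)

/-- The comparison with the limit of the restrictions. -/
def cmp (F : X.Modules) : (kap 𝓘 hX).pull.obj F ⟶ (complMod 𝓘 F).realMod hX :=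
  cmpReal hX (completionToX X 𝓘) (completionToX_comm X 𝓘) F

theorem cmpK_natural {G H : X.Modules} (φ : G ⟶ H) (k : ℕ) :
    cmpK hX (completionToX X 𝓘) (completionToX_comm X 𝓘) G k ≫
        (kap 𝓘 hX).push.map ((levelMor (completionAlong X 𝓘) hX k).push.map
          ((Scheme.Modules.pullback (completionToX X 𝓘 k)).map φ)) =
      φ ≫ cmpK hX (completionToX X 𝓘) (completionToX_comm X 𝓘) H k := by
  let p := completionToX X 𝓘 k
  refine (Category.assoc _ _ _).trans (Eq.trans ?_ (Category.assoc _ _ _))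
  refine (congrArg (fun q => (Scheme.Modules.pullbackPushforwardAdjunction p).unit.app G ≫ q)
    ((schPushCompare (completionAlong X 𝓘) hX (completionToX X 𝓘) (completionToX_comm X 𝓘) k).naturality
      ((Scheme.Modules.pullback p).map φ)).symm).trans ?_
  refine (Category.assoc _ _ _).symm.trans ?_
  exact congrArg (fun q => q ≫ (schPushCompare (completionAlong X 𝓘) hX (completionToX X 𝓘)
    (completionToX_comm X 𝓘) k).app _) ((Scheme.Modules.pullbackPushforwardAdjunction p).unit.naturality φ).symm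

theorem realModMap_realProj {𝔛 : Sys.{u}} (h : 𝔛.IsFormal) {𝔐 𝔑 : ModSys 𝔛} (Φ : 𝔐 ⟶ 𝔑) (k : ℕ) :
    ModSys.realModMap h Φ ≫ realProj 𝔛 h 𝔑.F 𝔑.toPush k =
      realProj 𝔛 h 𝔐.F 𝔐.toPush k ≫ (levelMor 𝔛 h k).push.map (Φ.app k) :=
  realLimMap_realProj 𝔛 h Φ.app (ModSys.Hom.toPush_comm Φ) k

/-- **The comparison is natural.** -/
theorem cmp_natural {G H : X.Modules} (φ : G ⟶ H) :
    (kap 𝓘 hX).pull.map φ ≫ cmp 𝓘 hX H = cmp 𝓘 hX G ≫ ModSys.realModMap hX (complModMap 𝓘 φ) := by
  refine limit.hom_ext fun ⟨k⟩ => ?_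
  show (_ ≫ cmp 𝓘 hX H) ≫ realProj _ hX (resSys _ _ H).F (resSys _ _ H).toPush k =
    (cmp 𝓘 hX G ≫ ModSys.realModMap hX (complModMap 𝓘 φ)) ≫ realProj _ hX (complMod 𝓘 H).F (complMod 𝓘 H).toPush k
  refine (Category.assoc _ _ _).trans (Eq.trans ?_ (Category.assoc _ _ _).symm)
  refine (congrArg (fun q => (kap 𝓘 hX).pull.map φ ≫ q) (cmpReal_realProj hX _ _ H k)).trans ?_
  refine ((kap 𝓘 hX).adj.homEquiv_naturality_left_symm _ _).symm.trans ?_
  refine (congrArg ((kap 𝓘 hX).adj.homEquiv _ _).symm (cmpK_natural 𝓘 hX φ k).symm).trans ?_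
  refine ((kap 𝓘 hX).adj.homEquiv_naturality_right_symm _ _).trans ?_
  refine (congrArg (fun q => q ≫ _) (cmpReal_realProj hX _ _ G k).symm).trans ((Category.assoc _ _ _).trans ?_)
  exact congrArg (fun q => cmp 𝓘 hX G ≫ q) (realModMap_realProj hX (complModMap 𝓘 φ) k).symm

omit hX in
theorem unit_tri_hom {Z Z' Y : Scheme.{u}} (ι : Z ⟶ Z') (i : Z' ⟶ Y) {j : Z ⟶ Y} (hc : ι ≫ i = j) (F : Y.Modules) :
    (Scheme.Modules.pullbackPushforwardAdjunction i).unit.app F ≫
      (Scheme.Modules.pushforward i).map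
        ((Scheme.Modules.pullbackPushforwardAdjunction ι).unit.app ((Scheme.Modules.pullback i).obj F) ≫
          (Scheme.Modules.pushforward ι).map ((pullTri ι i hc).hom.app F)) ≫
        (pushTri ι i hc).hom.app ((Scheme.Modules.pullback j).obj F) =
      (Scheme.Modules.pullbackPushforwardAdjunction j).unit.app F := by
  have h := FCohLib.unit_tri' ι i hc F (𝟙 _) ((pullTri ι i hc).hom.app F)
  refine Eq.trans ?_ (h.trans ?_)
  · exact congrArg (fun q => q ≫ _) ((Category.comp_id _).symm.trans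
      (congrArg (fun q => _ ≫ q) ((Scheme.Modules.pushforward i).map_id _).symm))
  · refine (congrArg (fun q => _ ≫ q) ((congrArg (Scheme.Modules.pushforward j).map ?_).trans
      ((Scheme.Modules.pushforward j).map_id _))).trans (Category.comp_id _)
    exact (congrArg (fun q => (pullTri ι i hc).inv.app F ≫ q) ((congrArg (fun q => q ≫ _)
      ((Scheme.Modules.pullback ι).map_id _)).trans (Category.id_comp _))).trans (Iso.inv_hom_id_app (pullTri ι i hc) F)

omit hX in
/-- The maps to the levels are compatible. -/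
theorem unit_gTr (F : X.Modules) (k : ℕ) :
    (Scheme.Modules.pullbackPushforwardAdjunction (completionToX X 𝓘 (k + 1))).unit.app F ≫ gTr 𝓘 (complMod 𝓘 F) k =
      (Scheme.Modules.pullbackPushforwardAdjunction (completionToX X 𝓘 k)).unit.app F := by
  unfold gTr
  rw [FCohLib.complMod_e_hom]
  exact unit_tri_hom ((completionAlong X 𝓘).ι k) (completionToX X 𝓘 (k + 1)) (completionToX_comm X 𝓘 k) F

omit hX in
/-- The transitions are natural. -/
theorem gTr_natural {𝔐 𝔑 : ModSys (completionAlong X 𝓘)} (Φ : 𝔐 ⟶ 𝔑) (k : ℕ) :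
    (Scheme.Modules.pushforward (completionToX X 𝓘 (k + 1))).map (Φ.app (k + 1)) ≫ gTr 𝓘 𝔑 k =
      gTr 𝓘 𝔐 k ≫ (Scheme.Modules.pushforward (completionToX X 𝓘 k)).map (Φ.app k) := by
  let ι := (completionAlong X 𝓘).ι k
  have hn := (Scheme.Modules.pullbackPushforwardAdjunction ι).unit.naturality (Φ.app (k + 1))
  simp only [Functor.id_map, Functor.comp_map] at hn
  have hc := (pushTri ι (completionToX X 𝓘 (k + 1)) (completionToX_comm X 𝓘 k)).hom.naturality (Φ.app k)
  simp only [Functor.comp_map] at hc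
  have e : Φ.app (k + 1) ≫ (Scheme.Modules.pullbackPushforwardAdjunction ι).unit.app (𝔑.F (k + 1)) ≫
        (Scheme.Modules.pushforward ι).map (𝔑.e k).hom =
      ((Scheme.Modules.pullbackPushforwardAdjunction ι).unit.app (𝔐.F (k + 1)) ≫
        (Scheme.Modules.pushforward ι).map (𝔐.e k).hom) ≫ (Scheme.Modules.pushforward ι).map (Φ.app k) := by
    rw [reassoc_of% hn, Category.assoc, ← Functor.map_comp, ← Functor.map_comp]
    exact congrArg (fun q => _ ≫ (Scheme.Modules.pushforward ι).map q) (Φ.comm k)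
  unfold gTr
  rw [← Category.assoc, ← Functor.map_comp, e, Functor.map_comp, Category.assoc, Category.assoc]
  exact congrArg (fun q => _ ≫ q) hc

variable [IsNoetherianRing A] [IsAdicComplete I A] [IsProper (X ↘ Spec (CommRingCat.of A))]
  (h𝓘 : 𝓘 = (FSch.idealSpec A I).comap (X ↘ Spec (CommRingCat.of A)))

omit hX in
include h𝓘 in
/-- Morphisms of completions come from unique morphisms. -/
theorem bijective_complModMap {G H : X.Modules} (hG : Coh.IsCoh G) (hH : Coh.IsCoh H) :
    Function.Bijective (fun φ : G ⟶ H => complModMap 𝓘 φ) := by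
  haveI := hH.1
  have hs : ClSub.IsProperOver (X ↘ Spec (CommRingCat.of A)) (CohB1.support G ∩ CohB1.support H) := by
    have h : IsClosed (CohB1.support G ∩ CohB1.support H) :=
      (QCohLib.isClosed_support G hG.2).inter (QCohLib.isClosed_support H hH.2)
    exact ⟨h, inferInstance⟩
  choose α hα using fun k => FCohLib.exists_desc_iso I 𝓘 h𝓘 k H
  let adj := fun k => Scheme.Modules.pullbackPushforwardAdjunction (completionToX X 𝓘 k)
  have hinv : ∀ k, (adj k).unit.app H ≫ (α k).inv = Formal.modPowπ I (k + 1) H := fun k =>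
    (congrArg (fun q => q ≫ (α k).inv) (hα k).symm).trans ((Category.assoc _ _ _).trans
      ((congrArg (fun q => _ ≫ q) (α k).hom_inv_id).trans (Category.comp_id _)))
  let g : (complMod 𝓘 G ⟶ complMod 𝓘 H) → ∀ k, G ⟶ Formal.modPow I (k + 1) H := fun Φ k =>
    ((adj k).unit.app G ≫ (Scheme.Modules.pushforward (completionToX X 𝓘 k)).map (Φ.app k)) ≫ (α k).inv
  have hg1 : ∀ Φ k, g Φ (k + 1) ≫ Formal2.modPowLE I (Nat.succ_le_succ (Nat.le_succ k)) H = g Φ k := by
    intro Φ k
    have hT : (α (k + 1)).inv ≫ Formal2.modPowLE I (Nat.succ_le_succ (Nat.le_succ k)) H =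
        gTr 𝓘 (complMod 𝓘 H) k ≫ (α k).inv := by
      refine (Iso.inv_comp_eq _).2 (coequalizer.hom_ext (Eq.trans (Formal2.modPowπ_modPowLE I _ H) ?_))
      refine (hinv k).symm.trans (Eq.trans ?_ (Category.assoc _ _ _))
      refine Eq.trans ?_ (congrArg (fun q => q ≫ _) (hα (k + 1)).symm)
      exact (congrArg (fun q => q ≫ (α k).inv) (unit_gTr 𝓘 H k).symm).trans (Category.assoc _ _ _)
    refine (Category.assoc _ _ _).trans ((congrArg (fun q => _ ≫ q) hT).trans ((Category.assoc _ _ _).symm.trans ?_))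
    refine congrArg (fun q => q ≫ (α k).inv) ((Category.assoc _ _ _).trans
      ((congrArg (fun q => _ ≫ q) (gTr_natural 𝓘 Φ k)).trans ((Category.assoc _ _ _).symm.trans ?_)))
    exact congrArg (fun q => q ≫ _) (unit_gTr 𝓘 G k)
  have hback : ∀ (φ : G ⟶ H) k, g (complModMap 𝓘 φ) k = φ ≫ Formal.modPowπ I (k + 1) H := fun φ k => by
    refine Eq.trans ?_ ((Category.assoc _ _ _).trans (congrArg (fun q => φ ≫ q) (hinv k)))
    exact congrArg (fun q => q ≫ (α k).inv) ((adj k).unit.naturality φ).symm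
  have key := fun Φ => HomCohLib.existsUnique_of_succ_system I hG hH hs (g Φ) (hg1 Φ)
  refine ⟨fun φ φ' e => (key (complModMap 𝓘 φ)).unique (fun k => (hback φ k).symm)
    (fun k => (hback φ' k).symm.trans (congrArg (fun Φ => g Φ k) e.symm)), fun Φ => ?_⟩
  obtain ⟨φ, hφ, -⟩ := key Φ
  refine ⟨φ, ModSys.Hom.ext (funext fun k => FCohLib.push_map_injective (completionToX X 𝓘 k) ?_)⟩
  have h1 : g (complModMap 𝓘 φ) k = g Φ k := (hback φ k).trans (hφ k)
  exact (cancel_mono (α k).inv).1 h1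

/-- The comparison for a coherent module as an isomorphism. -/
theorem isIso_cmp [IsLocallyNoetherian X] {F : X.Modules} (hF : Coh.IsCoh F) : IsIso (cmp 𝓘 hX F) :=
  FCohLib.isIso_cmpReal hX (completionToX X 𝓘) (completionToX_comm X 𝓘) F
    ⟨hX, FComplLib.completionAlong_isAdic X 𝓘, (FComplLib.completionAlong_isLocNoethFormal X 𝓘).2.2⟩
    (QCohLib.isFP_of_isCoh F hF)

include h𝓘 in
theorem bijective_realModMap_complModMap {G H : X.Modules} (hG : Coh.IsCoh G) (hH : Coh.IsCoh H) :
    Function.Bijective (fun φ : G ⟶ H => ModSys.realModMap hX (complModMap 𝓘 φ)) := by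
  have : IsLocallyNoetherian X := LocallyOfFiniteType.isLocallyNoetherian (X ↘ Spec (CommRingCat.of A))
  exact Function.Bijective.comp (g := fun Φ : complMod 𝓘 G ⟶ complMod 𝓘 H => ModSys.realModMap hX Φ)
    (FCohLib.realModMap_bijective ⟨hX, FComplLib.completionAlong_isAdic X 𝓘,
      (FComplLib.completionAlong_isLocNoethFormal X 𝓘).2.2⟩ (complMod 𝓘 G) (FCohLib.isCoh_complMod 𝓘 hG) (complMod 𝓘 H))
    (bijective_complModMap I 𝓘 h𝓘 hG hH)

theorem bijective_of_natural {C D : Type*} [Category* C] [Category* D] (K R : C → D) (k : ∀ {a b : C}, (a ⟶ b) → (K a ⟶ K b))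
    (r : ∀ {a b : C}, (a ⟶ b) → (R a ⟶ R b)) (c : ∀ a, K a ⟶ R a) (hn : ∀ {a b : C} (φ : a ⟶ b), k φ ≫ c b = c a ≫ r φ)
    {G H : C} (hG : IsIso (c G)) (hH : IsIso (c H)) (hb : Function.Bijective (fun φ : G ⟶ H => r φ)) :
    Function.Bijective (fun φ : G ⟶ H => k φ) := by
  refine ⟨fun φ φ' e => hb.1 ((cancel_epi (c G)).1 ?_), fun θ => ?_⟩
  · show c G ≫ r φ = c G ≫ r φ'
    rw [← hn, ← hn, show k φ = k φ' from e]
  · obtain ⟨φ, hφ⟩ := hb.2 (inv (c G) ≫ θ ≫ c H)
    refine ⟨φ, (cancel_mono (c H)).1 ?_⟩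
    show k φ ≫ c H = θ ≫ c H
    rw [hn, show r φ = _ from hφ, IsIso.hom_inv_id_assoc]

include h𝓘 in
/-- **The completion morphism is fully faithful on coherent modules.** -/
theorem bijective_pull_coh {G H : X.Modules} (hG : Coh.IsCoh G) (hH : Coh.IsCoh H) :
    Function.Bijective (fun φ : G ⟶ H => (kap 𝓘 hX).pull.map φ) := by
  have : IsLocallyNoetherian X := LocallyOfFiniteType.isLocallyNoetherian (X ↘ Spec (CommRingCat.of A))
  exact bijective_of_natural (D := ModF (completionAlong X 𝓘) hX) (fun F => (kap 𝓘 hX).pull.obj F)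
    (fun F => (complMod 𝓘 F).realMod hX) (fun φ => (kap 𝓘 hX).pull.map φ) (fun φ => ModSys.realModMap hX (complModMap 𝓘 φ))
    (fun F => cmp 𝓘 hX F) (fun φ => cmp_natural 𝓘 hX φ) (isIso_cmp 𝓘 hX hG) (isIso_cmp 𝓘 hX hH)
    (bijective_realModMap_complModMap I 𝓘 hX h𝓘 hG hH)

end FPullFFLib

end
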