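import Groth.Agent.FPullFFLib.Main
import Groth.Agent.QCohLib.QCoh
import Groth.Agent.IndCohLib.Union

/-!
# Ind-coherent modules on the completion of a proper scheme
-/

set_option autoImplicit false
set_option linter.style.haveILetI false
set_option linter.unusedSectionVars false
set_option maxHeartbeats 800000

universe v u w

open CategoryTheory CategoryTheory.Limits AlgebraicGeometry TopologicalSpace Opposite FSch

noncomputable section

namespace FPullFFLib

variable {A : Type u} [CommRing A] (I : Ideal A) {X : Scheme.{u}} [X.Over (Spec (CommRingCat.of A))]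
  (𝓘 : X.IdealSheafData) (hX : (completionAlong X 𝓘).IsFormal)
  [IsNoetherianRing A] [IsAdicComplete I A] [IsProper (X ↘ Spec (CommRingCat.of A))]
  (h𝓘 : 𝓘 = (FSch.idealSpec A I).comap (X ↘ Spec (CommRingCat.of A)))

include h𝓘 in
/-- Coherent modules on the completion come from coherent modules. -/
theorem exists_pull_iso {𝔉 : ModF (completionAlong X 𝓘) hX} (h𝔉 : IsCohF (completionAlong X 𝓘) hX 𝔉) :
    ∃ G : X.Modules, Coh.IsCoh G ∧ Nonempty ((kap 𝓘 hX).pull.obj G ≅ 𝔉) := by
  have : IsLocallyNoetherian X := LocallyOfFiniteType.isLocallyNoetherian (X ↘ Spec (CommRingCat.of A))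
  have hU : ClSub.IsProperOver (X ↘ Spec (CommRingCat.of A)) (Set.univ : Set X) := ⟨isClosed_univ, inferInstance⟩
  obtain ⟨G, hG, -, ⟨e⟩⟩ := FCohLib.algz_of_vanOff (A := A) I (f := X ↘ Spec (CommRingCat.of A)) h𝓘 h𝔉 hU
    (fun V hV s => FCohLib.eq_zero_of_points 𝔉 s fun q hq => (hV q hq (Set.mem_univ _)).elim)
  exact ⟨G, hG, ⟨@asIso _ _ _ _ (cmp 𝓘 hX G) (isIso_cmp 𝓘 hX hG) ≪≫ e.symm⟩⟩

include h𝓘 in
/-- **A module on the completion is ind-coherent exactly when it is the completion of a quasi-coherent one.** -/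
theorem ind_iff (𝔉 : ModF (completionAlong X 𝓘) hX) :
    (ObjectProperty.ind.{u} fun 𝔊 : ModF (completionAlong X 𝓘) hX => IsCohF (completionAlong X 𝓘) hX 𝔊) 𝔉 ↔
      ∃ G : X.Modules, Coh.IsQCoh G ∧ Nonempty ((kap 𝓘 hX).pull.obj G ≅ 𝔉) := by
  haveI : PreservesColimitsOfSize.{u, u} (kap 𝓘 hX).pull := (kap 𝓘 hX).adj.leftAdjoint_preservesColimits
  have : IsLocallyNoetherian X := LocallyOfFiniteType.isLocallyNoetherian (X ↘ Spec (CommRingCat.of A))
  have : CompactSpace X := QuasiCompact.compactSpace_of_compactSpace (X ↘ Spec (CommRingCat.of A))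
  have : AlgebraicGeometry.IsNoetherian X := {}
  refine ⟨fun h => ?_, fun h => ?_⟩
  · obtain ⟨J, _, _, pres, hp⟩ := h
    choose G hG e using fun j => exists_pull_iso I 𝓘 hX h𝓘 (hp j)
    let ε := fun j => (e j).some
    have hb := fun i j => bijective_pull I 𝓘 hX h𝓘 (hG i).1 (hG j).1
    choose m hm using fun (i j : J) (p : i ⟶ j) => (hb i j).2 ((ε i).hom ≫ pres.diag.map p ≫ (ε j).inv)
    let Γ : J ⥤ X.Modules :=
      { obj := G
        map := fun {i j} p => m i j p
        map_id := fun i => (hb i i).1 (by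
          show (kap 𝓘 hX).pull.map (m i i (𝟙 i)) = (kap 𝓘 hX).pull.map (𝟙 (G i))
          refine (hm i i (𝟙 i)).trans ?_
          rw [pres.diag.map_id, Category.id_comp, Iso.hom_inv_id]
          exact ((kap 𝓘 hX).pull.map_id _).symm)
        map_comp := fun {i j k} p q => (hb i k).1 (by
          show (kap 𝓘 hX).pull.map (m i k (p ≫ q)) = (kap 𝓘 hX).pull.map (m i j p ≫ m j k q)
          refine (hm i k (p ≫ q)).trans (Eq.trans ?_ (((kap 𝓘 hX).pull.map_comp _ _).trans
            (congrArg₂ (fun a b => a ≫ b) (hm i j p) (hm j k q))).symm)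
          simp) }
    let α : Γ ⋙ (kap 𝓘 hX).pull ≅ pres.diag := NatIso.ofComponents ε fun {i j} p => by
      show (kap 𝓘 hX).pull.map (m i j p) ≫ (ε j).hom = (ε i).hom ≫ pres.diag.map p
      refine (congrArg (fun a => a ≫ (ε j).hom) (hm i j p)).trans ?_
      simp
    haveI : Coh.IsQCoh (colimit Γ) := QCohLib.isQCoh_colimit Γ fun j => (hG j).1
    refine ⟨colimit Γ, inferInstance, ⟨?_⟩⟩
    exact IsColimit.coconePointsIsoOfNatIso (isColimitOfPreserves (kap 𝓘 hX).pull (colimit.isColimit Γ))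
      pres.isColimit α
  · obtain ⟨G, hG, ⟨e⟩⟩ := h
    obtain ⟨J, iJ, fJ, D, c, hc, hD, rfl⟩ := Groth.Agent.S2128.result X G hG
    have hc' : IsColimit ((kap 𝓘 hX).pull.mapCocone c) := isColimitOfPreserves (kap 𝓘 hX).pull hc
    refine ⟨J, iJ, fJ, (ColimitPresentation.mk (D ⋙ (kap 𝓘 hX).pull) ((kap 𝓘 hX).pull.mapCocone c).ι hc').ofIso e,
      fun j => ?_⟩
    haveI : SheafOfModules.IsFinitePresentation (R := ModSite.ringSh X.sheaf) (D.obj j) := hD j
    exact FModLib.isFP_pull (completionToX X 𝓘 0).base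
      (schSharp (completionAlong X 𝓘) hX (completionToX X 𝓘) (completionToX_comm X 𝓘)) (D.obj j)

end FPullFFLib

end
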