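import Groth.Agent.FPullFFLib.CohCase
import Groth.Agent.FPullFFLib.HomColimTop
import Groth.Agent.S2128

/-!
# Completion is fully faithful on quasi-coherent modules of a proper scheme over an adic ring
-/

set_option autoImplicit false
set_option linter.style.haveILetI false
set_option linter.unusedSectionVars false
set_option maxHeartbeats 800000

universe v u w

open CategoryTheory CategoryTheory.Limits AlgebraicGeometry TopologicalSpace Opposite FSch

noncomputable section

namespace FPullFFLib

section Cat

variable {C : Type*} [Category.{u} C] {D : Type*} [Category.{u} D] (F : C ⥤ D) {J : Type u} [SmallCategory J]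
  [IsFiltered J]

/-- Bijectivity on maps passes to a filtered colimit in the target. -/
theorem bijective_map_colimit_target (G : C) (H : J ⥤ C) {c : Cocone H} (hc : IsColimit c)
    [PreservesColimit H F] [PreservesColimit H (coyoneda.obj (op G))]
    [PreservesColimit (H ⋙ F) (coyoneda.obj (op (F.obj G)))]
    (hb : ∀ j, Function.Bijective (fun φ : G ⟶ H.obj j => F.map φ)) :
    Function.Bijective (fun φ : G ⟶ c.pt => F.map φ) := by
  have h1 := isColimitOfPreserves (coyoneda.obj (op G)) hc
  have h2 := isColimitOfPreserves (coyoneda.obj (op (F.obj G))) (isColimitOfPreserves F hc)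
  refine ⟨fun φ φ' e => ?_, fun θ => ?_⟩
  · obtain ⟨i, a, rfl⟩ := Types.jointly_surjective_of_isColimit h1 φ
    obtain ⟨i', a', rfl⟩ := Types.jointly_surjective_of_isColimit h1 φ'
    obtain ⟨k, p, p', hk⟩ := (Types.FilteredColimit.isColimit_eq_iff _ h2 (xi := F.map a) (xj := F.map a')).1
      (((F.map_comp a (c.ι.app i)).symm.trans e).trans (F.map_comp a' (c.ι.app i')))
    have h3 : a ≫ H.map p = a' ≫ H.map p' := (hb k).1
      (((F.map_comp a (H.map p)).trans hk).trans (F.map_comp a' (H.map p')).symm)
    exact (Types.FilteredColimit.isColimit_eq_iff _ h1 (xi := a) (xj := a')).2 ⟨k, p, p', h3⟩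
  · obtain ⟨i, b, rfl⟩ := Types.jointly_surjective_of_isColimit h2 θ
    obtain ⟨a, rfl⟩ := (hb i).2 b
    exact ⟨a ≫ c.ι.app i, F.map_comp a (c.ι.app i)⟩

/-- Bijectivity on maps passes to a colimit in the source. -/
theorem bijective_map_colimit_source (G : J ⥤ C) {c : Cocone G} (hc : IsColimit c) (H : C) [PreservesColimit G F]
    (hb : ∀ j, Function.Bijective (fun φ : G.obj j ⟶ H => F.map φ)) :
    Function.Bijective (fun φ : c.pt ⟶ H => F.map φ) := by
  have hF := isColimitOfPreserves F hc
  refine ⟨fun φ φ' e => hc.hom_ext fun j => (hb j).1 ?_, fun θ => ?_⟩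
  · show F.map (c.ι.app j ≫ φ) = F.map (c.ι.app j ≫ φ')
    rw [F.map_comp, F.map_comp, show F.map φ = F.map φ' from e]
  · choose a ha using fun j => (hb j).2 (F.map (c.ι.app j) ≫ θ)
    let s : Cocone G :=
      { pt := H
        ι := { app := a
               naturality := fun i j p => (hb i).1 (by
                 show F.map (G.map p ≫ a j) = F.map (a i ≫ 𝟙 H)
                 rw [Category.comp_id, F.map_comp, show F.map (a j) = _ from ha j, ← Category.assoc, ← F.map_comp,
                   c.w p]
                 exact (ha i).symm) } }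
    refine ⟨hc.desc s, hF.hom_ext fun j => ?_⟩
    show F.map (c.ι.app j) ≫ F.map (hc.desc s) = F.map (c.ι.app j) ≫ θ
    rw [← F.map_comp, hc.fac]
    exact ha j

end Cat

variable {A : Type u} [CommRing A] (I : Ideal A) {X : Scheme.{u}} [X.Over (Spec (CommRingCat.of A))]
  (𝓘 : X.IdealSheafData) (hX : (completionAlong X 𝓘).IsFormal)
  [IsNoetherianRing A] [IsAdicComplete I A] [IsProper (X ↘ Spec (CommRingCat.of A))]
  (h𝓘 : 𝓘 = (FSch.idealSpec A I).comap (X ↘ Spec (CommRingCat.of A)))

omit [IsAdicComplete I A] hX in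
theorem isCoh_of_isFP {F : X.Modules} (hF : CohB1.IsFP F) : Coh.IsCoh F := by
  haveI : SheafOfModules.IsFinitePresentation (R := X.ringCatSheaf) F := hF
  exact ⟨(inferInstance : SheafOfModules.IsQuasicoherent (R := X.ringCatSheaf) F),
    (inferInstance : SheafOfModules.IsFiniteType (R := X.ringCatSheaf) F)⟩

include h𝓘 in
/-- **The completion morphism is fully faithful on quasi-coherent modules.** -/
theorem bijective_pull {G H : X.Modules} (hG : Coh.IsQCoh G) (hH : Coh.IsQCoh H) :
    Function.Bijective (fun φ : G ⟶ H => (kap 𝓘 hX).pull.map φ) := by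
  have : IsLocallyNoetherian X := LocallyOfFiniteType.isLocallyNoetherian (X ↘ Spec (CommRingCat.of A))
  have : CompactSpace X := QuasiCompact.compactSpace_of_compactSpace (X ↘ Spec (CommRingCat.of A))
  have : AlgebraicGeometry.IsNoetherian X := {}
  have n₁ : NoetherianSpace X := inferInstance
  have n₂ : NoetherianSpace ((completionAlong X 𝓘).X 0) :=
    haveI := FComplLib.isClosedImmersion_completionToX X 𝓘 0
    (completionToX X 𝓘 0).isClosedEmbedding.isInducing.noetherianSpace
  obtain ⟨J, _, _, D, c, hc, hD, rfl⟩ := Groth.Agent.S2128.result X G hG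
  obtain ⟨J', _, _, D', c', hc', hD', rfl⟩ := Groth.Agent.S2128.result X H hH
  haveI : PreservesColimitsOfSize.{u, u} (kap 𝓘 hX).pull := (kap 𝓘 hX).adj.leftAdjoint_preservesColimits
  refine bijective_map_colimit_source (kap 𝓘 hX).pull D hc c'.pt fun j => ?_
  have hj : Coh.IsCoh (D.obj j) := isCoh_of_isFP (hD j)
  haveI : SheafOfModules.IsFinitePresentation (R := ModSite.ringSh X.sheaf) (D.obj j) := hD j
  haveI : SheafOfModules.IsFinitePresentation (R := ModSite.ringSh ((completionAlong X 𝓘).Osh hX))
      ((kap 𝓘 hX).pull.obj (D.obj j)) :=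
    FModLib.isFP_pull (completionToX X 𝓘 0).base
      (schSharp (completionAlong X 𝓘) hX (completionToX X 𝓘) (completionToX_comm X 𝓘)) (D.obj j)
  have p₁ : PreservesColimit D' (coyoneda.obj (op (D.obj j))) :=
    @preservesColimit_coyoneda X.toTopCat n₁ X.sheaf _ _ _ D' (D.obj j) inferInstance
  have p₂ : PreservesColimit (D' ⋙ (kap 𝓘 hX).pull) (coyoneda.obj (op ((kap 𝓘 hX).pull.obj (D.obj j)))) :=
    @preservesColimit_coyoneda ((completionAlong X 𝓘).X 0).toTopCat n₂ ((completionAlong X 𝓘).Osh hX) _ _ _ _ _ inferInstance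
  exact @bijective_map_colimit_target _ _ _ _ (kap 𝓘 hX).pull J' _ _ (D.obj j) D' _ hc' inferInstance p₁ p₂ fun i =>
    bijective_pull_coh I 𝓘 hX h𝓘 hj (isCoh_of_isFP (hD' i))

end FPullFFLib

end
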